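import Cfsg.Agent.H492.TI
import Cfsg.Agent.H96.TISylow
import Cfsg.Agent.LieRecognition.ReeSylowThree
import Cfsg.Agent.ChevalleyStructure.Ree.Data
import Cfsg.Agent.H400.LieLocal

/-!
# Rank one groups of Lie type: the Sylow subgroups intersect trivially (helper210, for S2771)
-/

set_option autoImplicit false

namespace Cfsg.Agent.H210.Loc

open Subgroup Matrix

/-- distinct Sylow `p`-subgroups intersect trivially -/
def TI (p : ℕ) (G : Type*) [Group G] : Prop :=
  ∀ P Q : Sylow p G, P ≠ Q → (P : Subgroup G) ⊓ (Q : Subgroup G) = ⊥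

theorem TI.of_surjective {p : ℕ} [Fact p.Prime] {G H : Type*} [Group G] [Finite G] [Group H] (h : TI p G) (f : G →* H)
    (hf : Function.Surjective f) : TI p H :=
  H492.sylow_ti_quotient p h f hf

theorem TI.of_equiv {p : ℕ} [Fact p.Prime] {G H : Type*} [Group G] [Finite G] [Group H] (h : TI p G) (e : G ≃* H) : TI p H :=
  h.of_surjective e.toMonoidHom e.surjective

theorem TI.normalizer_le {p : ℕ} {G : Type*} [Group G] (h : TI p G) (S : Sylow p G) {U : Subgroup G}
    (hU : U ≠ ⊥) (hUS : U ≤ S) : normalizer (U : Set G) ≤ normalizer ((S : Subgroup G) : Set G) := by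
  intro g hg
  by_contra hcon
  have hne : g • S ≠ S := fun h1 => hcon (Sylow.smul_eq_iff_mem_normalizer.1 h1)
  have h2 := h _ _ hne
  apply hU
  rw [eq_bot_iff, ← h2]
  refine le_inf ?_ hUS
  intro x hx
  rw [Sylow.coe_subgroup_smul, Subgroup.mem_pointwise_smul_iff_inv_smul_mem]
  apply hUS
  rw [← map_inv, MulAut.smul_def, MulAut.conj_apply]
  have := (mem_normalizer_iff.1 (inv_mem hg) x).1 hx
  simpa using this

theorem ti_psl2 {F : Type*} [Field F] [Finite F] {p : ℕ} [hp : Fact p.Prime] [CharP F p] :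
    TI p (ProjectiveSpecialLinearGroup (Fin 2) F) := by
  have h1 : TI p ↥(⊤ : Subgroup (SpecialLinearGroup (Fin 2) F)) := by
    intro P Q hPQ
    by_contra h
    exact hPQ (H96.TISylow.sl_two_ti _ P Q h)
  have h2 : TI p (SpecialLinearGroup (Fin 2) F) := h1.of_equiv Subgroup.topEquiv
  exact h2.of_surjective (QuotientGroup.mk' _) (QuotientGroup.mk'_surjective _)

theorem ti_psu3 {F : Type*} [Field F] [Fintype F] {q : ℕ} (hF : Fintype.card F = q ^ 2) {p : ℕ} [hp : Fact p.Prime] [CharP F p] :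
    TI p (Cfsg.PSU 3 F q) := by
  have h1 : TI p ↥(Cfsg.SU 3 F q) := by
    intro P Q hPQ
    by_contra h
    exact hPQ (H96.TISylow.su_three_ti hF P Q h)
  exact h1.of_surjective (QuotientGroup.mk' _) (QuotientGroup.mk'_surjective _)

theorem ti_ree {G : Type*} [Group G] (h : Cfsg.Lie.IsoRee G) : TI 3 G := by
  obtain ⟨K, _, _, m, hm, hK, ⟨e⟩⟩ := h
  obtain ⟨U, h, n, D⟩ := ChevalleyStructure.Ree.Data.exists_data (K := K) hK
  have hfin : Finite ↥(Cfsg.Lie.twistedG2 K (3 ^ m)) := Cfsg.Agent.LieRecognition.ReeSylowThree.finite D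
  have : Fact (Nat.Prime 3) := ⟨Nat.prime_three⟩
  have h1 : TI 3 ↥(Cfsg.Lie.twistedG2 K (3 ^ m)) := fun P Q hPQ =>
    Cfsg.Agent.LieRecognition.ReeSylowThree.sylow_three_inf hK D P Q hPQ
  exact h1.of_equiv e.symm

theorem ti_suzuki {G : Type*} [Group G] [Finite G] (h : Cfsg.Lie.IsoSuzuki G) : TI 2 G := by
  intro P Q hPQ
  have : Fact (Nat.Prime 2) := ⟨Nat.prime_two⟩
  by_contra hne
  apply hPQ
  obtain ⟨g, rfl⟩ := MulAction.exists_smul_eq G P Q
  obtain ⟨a, ha⟩ := Subgroup.ne_bot_iff_exists_ne_one.1 hne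
  obtain ⟨a, haP, haQ⟩ := a
  have ha1 : a ≠ 1 := fun h => ha (Subtype.ext h)
  have haQ' : g⁻¹ * a * g ∈ (P : Subgroup G) := by
    have : a ∈ ((g • P : Sylow 2 G) : Subgroup G) := haQ
    rw [Sylow.coe_subgroup_smul, Subgroup.mem_pointwise_smul_iff_inv_smul_mem] at this
    simpa [MulAut.smul_def] using this
  have h1 := H400.LieLocal.ti_of_suzuki h P g ⟨a, haP, ha1, haQ'⟩
  apply Sylow.ext
  have h2 : (P : Subgroup G) ≤ ((g • P : Sylow 2 G) : Subgroup G) := by
    intro x hx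
    rw [Sylow.coe_subgroup_smul, Subgroup.mem_pointwise_smul_iff_inv_smul_mem]
    simpa [MulAut.smul_def] using h1 x hx
  exact (P.3 (g • P : Sylow 2 G).2 h2).symm

end Cfsg.Agent.H210.Loc
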